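import Groth.Agent.EGA43.HenselCompare.OrdMorse
import Groth.Agent.CAlgH.PowerSeriesEval
import Groth.Agent.CAlgH.FiniteCompletion
import Mathlib.RingTheory.MvPowerSeries.Equiv

/-!
# The completion of a hypersurface at the origin
-/

set_option autoImplicit false
set_option linter.style.haveILetI false

universe u

open MvPowerSeries Finsupp

namespace Groth.Agent.EGA43.HenselCompare

open Et18

variable {k : Type u} [Field k] {N : ℕ}

theorem ordGE_of_mem_pow {j : ℕ} {p : MvPowerSeries (Fin N) k}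
    (h : p ∈ IsLocalRing.maximalIdeal (MvPowerSeries (Fin N) k) ^ j) : OrdGE j p := by
  induction j generalizing p with
  | zero => exact fun d hd => absurd hd (Nat.not_lt_zero _)
  | succ j ih =>
    rw [pow_succ] at h
    exact Submodule.mul_induction_on h
      (fun a ha b hb => (ih ha).mul (ordGE_one_iff.2 (mem_maximalIdeal_iff.1 hb))) fun a b ha hb => ha.add hb

theorem mem_pow_of_ordGE {j : ℕ} {p : MvPowerSeries (Fin N) k} (h : OrdGE j p) :
    p ∈ IsLocalRing.maximalIdeal (MvPowerSeries (Fin N) k) ^ j := by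
  induction j generalizing p with
  | zero => simp
  | succ j ih =>
    rw [← sum_X_mul_divVar p (ordGE_one_iff.1 (h.mono (by omega))), pow_succ']
    exact Ideal.sum_mem _ fun i _ => Ideal.mul_mem_mul (mem_maximalIdeal_iff.2 (by simp)) (ih (h.divVar i))

theorem originIdeal_eq : VanCyc.originIdeal k (N := N) = MvPolynomial.idealOfVars (Fin N) k := by
  rw [VanCyc.originIdeal, IsLocalRing.maximalIdeal_eq_bot, Ideal.map_bot, bot_sup_eq]

theorem coe_mem_pow_iff {j : ℕ} (p : MvPolynomial (Fin N) k) :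
    (p : MvPowerSeries (Fin N) k) ∈ IsLocalRing.maximalIdeal (MvPowerSeries (Fin N) k) ^ j ↔
      p ∈ MvPolynomial.idealOfVars (Fin N) k ^ j := by
  rw [MvPolynomial.mem_pow_idealOfVars_iff']
  exact ⟨fun h d hd => by rw [← MvPolynomial.coeff_coe]; exact ordGE_of_mem_pow h d hd,
    fun h => mem_pow_of_ordGE fun d hd => by rw [MvPolynomial.coeff_coe]; exact h d hd⟩

/-- The completion of `k[x]/(P)` localized at the origin is `k[[x]]/(P)`. -/
theorem exists_completion_equiv (P : MvPolynomial (Fin N) k) (hP : P ∈ MvPolynomial.idealOfVars (Fin N) k)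
    {S : Type u} [CommRing S] [Algebra k S] (π : MvPolynomial (Fin N) k →ₐ[k] S) (hπ : Function.Surjective π)
    (hπP : RingHom.ker π = Ideal.span {P}) (M : Ideal S) [M.IsPrime]
    (hM : M = (MvPolynomial.idealOfVars (Fin N) k).map π) :
    ∃ e : AdicCompletion (IsLocalRing.maximalIdeal (Localization.AtPrime M)) (Localization.AtPrime M) ≃+*
        (MvPowerSeries (Fin N) k ⧸ Ideal.span {(P : MvPowerSeries (Fin N) k)}),
      ∀ c : k, e (algebraMap (Localization.AtPrime M) _ (algebraMap k (Localization.AtPrime M) c)) =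
        algebraMap k _ c := by
  let PS := MvPowerSeries (Fin N) k
  let Q : Ideal PS := Ideal.span {(P : PS)}
  let mS : Ideal PS := IsLocalRing.maximalIdeal PS
  let J : Ideal (PS ⧸ Q) := mS.map (Ideal.Quotient.mk Q)
  have hX : Ideal.span (Set.range (MvPowerSeries.X : Fin N → PS)) = mS :=
    le_antisymm (Ideal.span_le.2 fun _ ⟨i, hi⟩ => hi ▸ mem_maximalIdeal_iff.2 (by simp)) fun p hp => by
      rw [← sum_X_mul_divVar p (mem_maximalIdeal_iff.1 hp)]
      exact Ideal.sum_mem _ fun i _ => Ideal.mul_mem_right _ _ (Ideal.subset_span ⟨i, rfl⟩)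
  haveI : IsAdicComplete mS PS := hX ▸ CAlgH.isAdicComplete_mvPowerSeries (Fin N) k
  haveI : IsNoetherianRing PS := inferInstance
  haveI : IsAdicComplete J (PS ⧸ Q) := by
    haveI : IsAdicComplete mS (PS ⧸ Q) := AdicRing.isAdicComplete_of_finite mS (PS ⧸ Q)
    exact (IsAdicComplete.map_algebraMap_iff (S := PS ⧸ Q) (I := mS) (M := PS ⧸ Q)).2 inferInstance
  have hQm : Q ≤ mS := by
    rw [Ideal.span_singleton_le_iff_mem, ← pow_one mS]
    exact (coe_mem_pow_iff P).2 (by rwa [pow_one])
  have hJne : J ≠ ⊤ := by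
    intro h
    have h1 : (1 : PS) ∈ J.comap (Ideal.Quotient.mk Q) := by rw [h]; exact trivial
    rw [Ideal.comap_map_of_surjective _ Ideal.Quotient.mk_surjective, ← RingHom.ker_eq_comap_bot,
      Ideal.mk_ker, sup_eq_left.2 hQm] at h1
    exact (IsLocalRing.maximalIdeal.isMaximal PS).ne_top ((Ideal.eq_top_iff_one _).2 h1)
  let cc : MvPolynomial (Fin N) k →ₐ[k] PS :=
    { MvPolynomial.coeToMvPowerSeries.ringHom with commutes' := fun c => MvPolynomial.coe_C c }
  obtain ⟨ψ, hψ⟩ : ∃ ψ : S →ₐ[k] PS ⧸ Q, ∀ p, ψ (π p) = Ideal.Quotient.mk Q (p : PS) := by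
    have hle : RingHom.ker π.toRingHom ≤ RingHom.ker ((Ideal.Quotient.mkₐ k Q).comp cc).toRingHom := by
      show RingHom.ker π ≤ _
      rw [hπP, Ideal.span_singleton_le_iff_mem, RingHom.mem_ker]
      exact Ideal.Quotient.eq_zero_iff_mem.2 (Ideal.subset_span rfl)
    exact ⟨AlgHom.liftOfSurjective π hπ ((Ideal.Quotient.mkₐ k Q).comp cc) hle,
      fun p => AlgHom.liftOfSurjective_apply _ _ _ _ p⟩
  have hψmem : ∀ (p : MvPolynomial (Fin N) k) (j : ℕ),
      ψ (π p) ∈ J ^ j ↔ π p ∈ M ^ j := by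
    intro p j
    rw [hψ, show J ^ j = (mS ^ j).map (Ideal.Quotient.mk Q) from (Ideal.map_pow _ _ _).symm, hM, ← Ideal.map_pow π]
    constructor
    · intro h
      obtain ⟨w, hw, hwp⟩ := (Ideal.mem_map_iff_of_surjective _ Ideal.Quotient.mk_surjective).1 h
      obtain ⟨g, hg⟩ := Ideal.mem_span_singleton'.1 (Ideal.Quotient.eq.1 hwp.symm)
      refine (Ideal.mem_map_iff_of_surjective _ hπ).2
        ⟨p - P * truncTotal j g, (coe_mem_pow_iff _).1 ?_, ?_⟩
      · have hd : g - (truncTotal j g : PS) ∈ mS ^ j := mem_pow_of_ordGE fun d hd => by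
          rw [map_sub, MvPolynomial.coeff_coe, coeff_truncTotal _ hd, sub_self]
        have e : ((p - P * truncTotal j g : MvPolynomial (Fin N) k) : PS) =
            w + (g - (truncTotal j g : PS)) * (P : PS) := by
          show MvPolynomial.coeToMvPowerSeries.ringHom (p - P * truncTotal j g) = _
          rw [map_sub, map_mul]
          show (p : PS) - (P : PS) * (truncTotal j g : PS) = _
          have h2 : (p : PS) - w = g * (P : PS) := hg.symm
          linear_combination h2
        rw [e]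
        exact add_mem hw (Ideal.mul_mem_right _ _ hd)
      · rw [map_sub, map_mul, RingHom.mem_ker.1 (hπP.ge (Ideal.subset_span rfl) : P ∈ RingHom.ker π), zero_mul, sub_zero]
    · intro h
      obtain ⟨r, hr, hrp⟩ := (Ideal.mem_map_iff_of_surjective _ hπ).1 h
      rw [← hψ, ← hrp, hψ]
      exact Ideal.mem_map_of_mem _ ((coe_mem_pow_iff r).2 hr)
  have hu : ∀ s : M.primeCompl, IsUnit (ψ s) := by
    rintro ⟨s, hs⟩
    obtain ⟨s, rfl⟩ := hπ s
    have hn : (s : PS) ∉ mS := fun h => hs (by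
      show π s ∈ M
      rw [← pow_one M]
      exact (hψmem s 1).1 (by rw [hψ, Submodule.pow_one J]; exact Ideal.mem_map_of_mem _ h))
    rw [IsLocalRing.mem_maximalIdeal, mem_nonunits_iff, not_not] at hn
    show IsUnit (ψ (π s))
    rw [hψ]
    exact hn.map (Ideal.Quotient.mk Q)
  let φ : Localization.AtPrime M →ₐ[k] PS ⧸ Q := IsLocalization.liftAlgHom (M := M.primeCompl) hu
  have hφ : ∀ x, φ (algebraMap _ (Localization.AtPrime M) x) = ψ x := fun x => IsLocalization.lift_eq _ x
  have hsurj : ∀ j (y : PS ⧸ Q), ∃ r, y - φ r ∈ J ^ j := by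
    intro j y
    obtain ⟨F, rfl⟩ := Ideal.Quotient.mk_surjective y
    refine ⟨algebraMap S _ (π (truncTotal j F)), ?_⟩
    rw [hφ, hψ,
      ← map_sub, show J ^ j = (mS ^ j).map (Ideal.Quotient.mk Q) from (Ideal.map_pow _ _ _).symm]
    exact Ideal.mem_map_of_mem _ (mem_pow_of_ordGE fun d hd => by
      rw [map_sub, MvPolynomial.coeff_coe, coeff_truncTotal _ hd, sub_self])
  have hker : ∀ j, (J ^ j).comap φ.toRingHom = IsLocalRing.maximalIdeal (Localization.AtPrime M) ^ j := by
    intro j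
    rw [← IsLocalization.AtPrime.map_eq_maximalIdeal M (Localization.AtPrime M), ← Ideal.map_pow (algebraMap S (Localization.AtPrime M))]
    ext z
    obtain ⟨a, s, rfl⟩ := IsLocalization.exists_mk'_eq M.primeCompl z
    obtain ⟨a, rfl⟩ := hπ a
    have hz : φ (IsLocalization.mk' _ (π a) s) * ψ s = ψ (π a) := by
      rw [← hφ, ← map_mul, IsLocalization.mk'_spec, hφ]
    rw [Ideal.mem_comap]
    show φ _ ∈ J ^ j ↔ _
    constructor
    · intro h
      have h1 := (hψmem a j).1 (by rw [← hz]; exact Ideal.mul_mem_right _ _ h)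
      rw [IsLocalization.mk'_eq_mul_mk'_one]
      exact Ideal.mul_mem_right _ _ (Ideal.mem_map_of_mem _ h1)
    · intro h
      have h1 : φ (IsLocalization.mk' _ (π a) s) ∈
          ((M ^ j).map (algebraMap _ (Localization.AtPrime M))).map φ.toRingHom := Ideal.mem_map_of_mem _ h
      rw [Ideal.map_map] at h1
      refine Ideal.map_le_iff_le_comap.2 (fun x hx => ?_) h1
      obtain ⟨x, rfl⟩ := hπ x
      show φ (algebraMap _ _ _) ∈ J ^ j
      rw [hφ]
      exact (hψmem x j).2 hx
  obtain ⟨e, he⟩ := CAlgH.completion_equiv_of_quotients (IsLocalRing.maximalIdeal (Localization.AtPrime M)) J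
    φ.toRingHom hker hsurj
  exact ⟨e, fun c => (he _).trans (φ.commutes c)⟩

end Groth.Agent.EGA43.HenselCompare
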