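import Groth.Agent.EGA43.HenselCompare.Main
import Groth.Agent.EGA43.HenselCompare.Model

/-!
# The henselization of an ordinary quadratic singularity
-/

set_option autoImplicit false
set_option linter.style.haveILetI false

universe u

namespace Groth.Agent.EGA43.HenselCompare

theorem exists_quadOrd_henselization_equiv (k : Type u) [Field k] [IsAlgClosed k]
    (O : Type u) [CommRing O] [IsLocalRing O] [Algebra k O] [Algebra.EssFiniteType k O]
    (n : ℕ) (hq : VanCyc.IsOrdQuadSing k O n)
    (Oh : Type u) [CommRing Oh] [IsLocalRing Oh] [Algebra O Oh] [IsLocalHom (algebraMap O Oh)]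
    [Hensel.IsHenselization O Oh] [Algebra k Oh] [IsScalarTower k O Oh] :
    ∃ a : Fin (n + 1) → Fin (n + 1) → k, VanCyc.QuadOrd a ∧
      ∀ [(VanCyc.originQuot k a 0).IsPrime] (C : Type u) [CommRing C] [IsLocalRing C]
        [Algebra (Localization.AtPrime (VanCyc.originQuot k a 0)) C]
        [IsLocalHom (algebraMap (Localization.AtPrime (VanCyc.originQuot k a 0)) C)]
        [Hensel.IsHenselization (Localization.AtPrime (VanCyc.originQuot k a 0)) C]
        [Algebra k C] [IsScalarTower k (Localization.AtPrime (VanCyc.originQuot k a 0)) C],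
        Nonempty (Oh ≃ₐ[k] C) := by
  obtain ⟨f, hf, ⟨e⟩⟩ := hq
  obtain ⟨e'⟩ := nonempty_quot_equiv f hf
  refine ⟨VanCyc.quadPart f, hf.2, fun {hp} C _ _ _ _ _ _ _ => ?_⟩
  haveI := hp
  let a := VanCyc.quadPart f
  let P : MvPolynomial (Fin (n + 1)) k := VanCyc.quadPoly a - MvPolynomial.C 0
  have hP : P ∈ MvPolynomial.idealOfVars (Fin (n + 1)) k := by
    refine sub_mem (Ideal.sum_mem _ fun i _ => Ideal.sum_mem _ fun j _ => ?_) (by simp)
    split_ifs
    · exact Ideal.mul_mem_left _ _ (Ideal.subset_span ⟨j, rfl⟩)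
    · exact Ideal.zero_mem _
  obtain ⟨em, hem⟩ := exists_completion_equiv P hP (Ideal.Quotient.mkₐ k (Ideal.span {P}))
    Ideal.Quotient.mk_surjective Ideal.mk_ker (VanCyc.originQuot k a 0)
    (congrArg (Ideal.map (Ideal.Quotient.mk (Ideal.span {P}))) originIdeal_eq)
  have hPS : Ideal.span {(P : MvPowerSeries (Fin (n + 1)) k)} = Ideal.span {Et18.qSeries a} := by
    rw [← Et18.coe_quadPoly]
    simp [P, a]
  let eq' := (Ideal.quotientEquivAlgOfEq k hPS).trans (e.trans e').symm
  refine nonempty_henselization_algEquiv (CAlgH.Approximation.isGRing_field k) O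
    (Localization.AtPrime (VanCyc.originQuot k a 0)) (em.trans eq'.toRingEquiv) (fun c => ?_) Oh C
  rw [RingEquiv.trans_apply, hem, ← IsScalarTower.algebraMap_apply]
  exact eq'.commutes c

end Groth.Agent.EGA43.HenselCompare
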