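import Groth.Agent.CAlgH.ApproximationLocal
import Groth.Agent.CAlgH.EtaleOfCompletionIso
import Groth.Agent.HenselLib.EssEtMaps
import Groth.Agent.HenselLib.LocalEtale
import Groth.Agent.HenselLib.LocalHens
import Groth.Agent.EssEt6.Strict

/-!
# Henselizations of local rings with isomorphic completions (Artin)
-/

set_option autoImplicit false
set_option backward.isDefEq.respectTransparency false
set_option linter.style.haveILetI false

universe u

open IsLocalRing TensorProduct

namespace Groth.Agent.EGA43.HenselCompare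

/-- The henselization does not change along a strictly essentially etale local algebra. -/
theorem henselization_equiv_of_strictlyEssEtale {A A' : Type u} [CommRing A] [IsLocalRing A] [CommRing A']
    [IsLocalRing A'] [Algebra A A'] [IsLocalHom (algebraMap A A')] (h : EGA4loc.IsStrictlyEssentiallyEtale A A')
    (Ah : Type u) [CommRing Ah] [IsLocalRing Ah] [Algebra A Ah] [IsLocalHom (algebraMap A Ah)]
    [Hensel.IsHenselization A Ah] (A'h : Type u) [CommRing A'h] [IsLocalRing A'h] [Algebra A' A'h]
    [IsLocalHom (algebraMap A' A'h)] [Hensel.IsHenselization A' A'h] :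
    ∃ e : Ah ≃+* A'h, ∀ a, e (algebraMap A Ah a) = algebraMap A' A'h (algebraMap A A' a) := by
  haveI := Hensel.IsHenselization.henselian (R := A) (S := Ah)
  haveI := Hensel.IsHenselization.henselian (R := A') (S := A'h)
  haveI : IsLocalHom ((algebraMap A' A'h).comp (algebraMap A A')) := RingHom.isLocalHom_comp _ _
  obtain ⟨w, ⟨hw1, hw⟩, -⟩ := HenselLib.EssEtMaps.existsUnique_lift_strict h Ah (algebraMap A Ah)
  haveI := hw1
  obtain ⟨v, hv, -⟩ := Hensel.IsHenselization.universal (R := A') (S := A'h) Ah w hw1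
  obtain ⟨u, hu, -⟩ := Hensel.IsHenselization.universal (R := A) (S := Ah) A'h
    ((algebraMap A' A'h).comp (algebraMap A A')) inferInstance
  have hvu : v.comp u = RingHom.id Ah := by
    refine (Hensel.IsHenselization.universal (R := A) (S := Ah) Ah (algebraMap A Ah) inferInstance).unique ?_ rfl
    rw [RingHom.comp_assoc, hu, ← RingHom.comp_assoc, hv, hw]
  have huw : u.comp w = algebraMap A' A'h := by
    obtain ⟨z, -, hz⟩ := HenselLib.EssEtMaps.existsUnique_lift_strict h A'h
      ((algebraMap A' A'h).comp (algebraMap A A'))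
    have h1 : IsLocalHom (u.comp w) := by
      refine ⟨fun x hx => ?_⟩
      by_contra hn
      obtain ⟨a', ha'⟩ := h.2.2 (residue A' x)
      obtain ⟨a, rfl⟩ := residue_surjective a'
      have hm : x - algebraMap A A' a ∈ maximalIdeal A' := Ideal.Quotient.eq.1 ha'.symm
      have ha : a ∈ maximalIdeal A := by
        by_contra hu'
        rw [mem_maximalIdeal, mem_nonunits_iff, not_not] at hu'
        exact (mem_maximalIdeal x).1 ((mem_maximalIdeal x).2 hn) (IsUnit.of_map (residue A') x (by
          rw [← ha']; exact (hu'.map (residue A)).map _))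
      have h2 : w x - algebraMap A Ah a ∈ maximalIdeal Ah := by
        rw [← hw, RingHom.comp_apply, ← map_sub]; exact map_nonunit w _ hm
      have h3 : algebraMap A Ah a ∈ maximalIdeal Ah := map_nonunit _ _ ha
      have h4 : w x ∈ maximalIdeal Ah := by simpa using add_mem h2 h3
      have h5 : IsUnit (v (u (w x))) := hx.map v
      rw [show v (u (w x)) = w x from RingHom.congr_fun hvu _] at h5
      exact (mem_maximalIdeal _).1 h4 h5
    exact (hz _ ⟨h1, by rw [RingHom.comp_assoc, hw, hu]⟩).trans (hz _ ⟨inferInstance, rfl⟩).symm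
  have huv : u.comp v = RingHom.id A'h := by
    refine (Hensel.IsHenselization.universal (R := A') (S := A'h) A'h (algebraMap A' A'h) inferInstance).unique ?_ rfl
    rw [RingHom.comp_assoc, hv, huw]
  exact ⟨RingEquiv.ofRingHom u v huv hvu, fun a => RingHom.congr_fun hu a⟩

/-- Local rings essentially of finite type over a G-ring with isomorphic completions have a common
strictly essentially etale neighbourhood. -/
theorem exists_common_nbhd {k : Type u} [CommRing k] [IsNoetherianRing k] (hk : CAlg.IsGRing k)
    (O O' : Type u) [CommRing O] [IsLocalRing O] [Algebra k O] [Algebra.EssFiniteType k O]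
    [CommRing O'] [IsLocalRing O'] [Algebra k O'] [Algebra.EssFiniteType k O']
    (φ : EGA4.Cpl O' ≃+* EGA4.Cpl O)
    (hφ : ∀ a : k, φ (algebraMap O' (EGA4.Cpl O') (algebraMap k O' a)) =
      algebraMap O (EGA4.Cpl O) (algebraMap k O a)) :
    ∃ (R' : Type u) (_ : CommRing R') (_ : IsLocalRing R') (_ : Algebra O R') (_ : IsLocalHom (algebraMap O R'))
      (_ : Algebra O' R') (_ : IsLocalHom (algebraMap O' R')),
      EGA4loc.IsStrictlyEssentiallyEtale O R' ∧ EGA4loc.IsStrictlyEssentiallyEtale O' R' ∧
        ∀ a : k, algebraMap O R' (algebraMap k O a) = algebraMap O' R' (algebraMap k O' a) := by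
  obtain ⟨C, _, _, _, _, hC, hloc⟩ : ∃ (C : Type u) (_ : CommRing C) (_ : Algebra k C) (_ : Algebra C O)
      (_ : IsScalarTower k C O), Algebra.FiniteType k C ∧
        IsLocalization.AtPrime O ((maximalIdeal O).comap (algebraMap C O)) :=
    let ⟨C₀, h, h'⟩ := HenselLib.LocalEtale.exists_model k O
    ⟨C₀, inferInstance, inferInstance, inferInstance, inferInstance, h, h'⟩
  obtain ⟨C', _, _, _, _, hC', hloc'⟩ : ∃ (C : Type u) (_ : CommRing C) (_ : Algebra k C) (_ : Algebra C O')
      (_ : IsScalarTower k C O'), Algebra.FiniteType k C ∧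
        IsLocalization.AtPrime O' ((maximalIdeal O').comap (algebraMap C O')) :=
    let ⟨C₀, h, h'⟩ := HenselLib.LocalEtale.exists_model k O'
    ⟨C₀, inferInstance, inferInstance, inferInstance, inferInstance, h, h'⟩
  haveI := hC; haveI := hC'; haveI := hloc; haveI := hloc'
  haveI : IsNoetherianRing C := Algebra.FiniteType.isNoetherianRing k C
  haveI : IsNoetherianRing C' := Algebra.FiniteType.isNoetherianRing k C'
  haveI : IsNoetherianRing O := IsLocalization.isNoetherianRing ((maximalIdeal O).comap (algebraMap C O)).primeCompl O inferInstance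
  haveI : IsNoetherianRing O' := IsLocalization.isNoetherianRing ((maximalIdeal O').comap (algebraMap C' O')).primeCompl O' inferInstance
  haveI : Algebra.FinitePresentation k C' := Algebra.FinitePresentation.of_finiteType.1 inferInstance
  let T := EGA4.Cpl O
  haveI : IsScalarTower k C T := IsScalarTower.of_algebraMap_eq fun a => by
    rw [IsScalarTower.algebraMap_apply k O T, IsScalarTower.algebraMap_apply C O T, ← IsScalarTower.algebraMap_apply k C O]
  let β : C' →ₐ[k] T :=
    { φ.toRingHom.comp ((algebraMap O' (EGA4.Cpl O')).comp (algebraMap C' O')) with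
      commutes' := fun a => ((congrArg (fun x => φ (algebraMap O' (EGA4.Cpl O') x))
        (IsScalarTower.algebraMap_apply k C' O' a).symm).trans (hφ a)).trans
          (IsScalarTower.algebraMap_apply k O T a).symm }
  let φD : C ⊗[k] C' →ₐ[C] T := Algebra.TensorProduct.lift (Algebra.ofId C T) β fun _ _ => Commute.all _ _
  have hR : CAlg.IsGRing O := CAlgH.ApproximationLocal.isGRing_of_essFiniteType hk
  obtain ⟨Cet, _, _, hCet, γ, Q, hQ, hQp, hmain⟩ :=
    CAlgH.ApproximationLocal.exists_etale_local ((maximalIdeal O).comap (algebraMap C O)) hR φD 2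
  haveI := hQ; haveI := hCet
  haveI : IsNoetherianRing Cet := Algebra.FiniteType.isNoetherianRing C Cet
  obtain ⟨R', _, _, _, _⟩ : ∃ (R' : Type u) (_ : CommRing R') (_ : IsLocalRing R') (_ : Algebra Cet R'),
      IsLocalization.AtPrime R' Q :=
    ⟨Localization.AtPrime Q, inferInstance, inferInstance, inferInstance, inferInstance⟩
  haveI : IsNoetherianRing R' := IsLocalization.isNoetherianRing Q.primeCompl R' inferInstance
  letI : Algebra C R' := ((algebraMap Cet R').comp (algebraMap C Cet)).toAlgebra
  haveI : IsScalarTower C Cet R' := IsScalarTower.of_algebraMap_eq fun _ => rfl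
  let ι : O →+* R' := IsLocalization.lift (M := ((maximalIdeal O).comap (algebraMap C O)).primeCompl)
    (g := (algebraMap Cet R').comp (algebraMap C Cet)) fun s =>
      IsLocalization.map_units R' (⟨algebraMap C Cet s, fun h => s.2 (hQp.le h)⟩ : Q.primeCompl)
  have hι : ι.comp (algebraMap C O) = (algebraMap Cet R').comp (algebraMap C Cet) := IsLocalization.lift_comp _
  obtain ⟨hres, happ⟩ := hmain R' ι hι
  letI algι : Algebra O R' := ι.toAlgebra
  haveI : IsScalarTower C O R' := IsScalarTower.of_algebraMap_eq fun x =>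
    (IsScalarTower.algebraMap_apply C Cet R' x).trans (RingHom.congr_fun hι x).symm
  haveI hιloc : IsLocalHom ι := by
    refine ⟨fun r hr => ?_⟩
    obtain ⟨⟨c, s⟩, hcs⟩ := IsLocalization.surj ((maximalIdeal O).comap (algebraMap C O)).primeCompl r
    by_contra hn
    have hcm : algebraMap C O c ∈ maximalIdeal O := by
      rw [← hcs]; exact Ideal.mul_mem_right _ _ ((mem_maximalIdeal r).2 hn)
    have : c ∈ (maximalIdeal O).comap (algebraMap C O) := hcm
    rw [← hQp] at this
    refine (mem_maximalIdeal _).1 ((IsLocalization.AtPrime.to_map_mem_maximal_iff R' Q _).2 this) ?_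
    rw [← RingHom.comp_apply, ← hι, RingHom.comp_apply, ← hcs, map_mul]
    exact hr.mul ((IsLocalization.map_units O s).map ι)
  haveI : IsLocalHom (algebraMap O R') := hιloc
  haveI : Algebra.EssFiniteType Cet R' := Algebra.EssFiniteType.of_isLocalization R' Q.primeCompl
  haveI : Algebra.FormallyUnramified Cet R' := Algebra.FormallyUnramified.of_isLocalization Q.primeCompl
  haveI : Algebra.FormallyUnramified C R' := Algebra.FormallyUnramified.comp C Cet R'
  haveI : Algebra.FormallyUnramified O R' := Algebra.FormallyUnramified.of_restrictScalars C O R'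
  haveI : Algebra.EssFiniteType C R' := Algebra.EssFiniteType.comp C Cet R'
  haveI : Algebra.EssFiniteType O R' := Algebra.EssFiniteType.of_comp C O R'
  haveI : Module.Flat Cet R' := IsLocalization.flat _ Q.primeCompl
  haveI : Module.Flat C Cet := Algebra.Smooth.flat C Cet
  haveI : Module.Flat C R' := Module.Flat.trans C Cet R'
  haveI hflat : Module.Flat O R' :=
    (Module.flat_iff_of_isLocalization O ((maximalIdeal O).comap (algebraMap C O)).primeCompl R').2 inferInstance
  have hmR' : (maximalIdeal O).map ι = maximalIdeal R' := Algebra.FormallyUnramified.map_maximalIdeal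
  have hne : maximalIdeal R' ^ 2 ≤ maximalIdeal R' := Ideal.pow_le_self two_ne_zero
  -- the map from the second local ring
  let δ : C' →+* R' := ((algebraMap Cet R').comp γ.toRingHom).comp
    (Algebra.TensorProduct.includeRight : C' →ₐ[k] C ⊗[k] C').toRingHom
  have hδ : ∀ (b : C') (c : O), AdicCompletion.evalₐ (maximalIdeal O) 2
      (φ (algebraMap O' (EGA4.Cpl O') (algebraMap C' O' b))) = Ideal.Quotient.mk (maximalIdeal O ^ 2) c →
        δ b - ι c ∈ maximalIdeal R' ^ 2 := by
    intro b c hc
    refine happ ((1 : C) ⊗ₜ[k] b) c ?_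
    show AdicCompletion.evalₐ (maximalIdeal O) 2 (Algebra.TensorProduct.lift (Algebra.ofId C T) β
      (fun _ _ => Commute.all _ _) ((1 : C) ⊗ₜ[k] b)) = _
    rw [Algebra.TensorProduct.lift_tmul, map_one, one_mul]
    exact hc
  have hunit : ∀ (b : O') (c : O), IsUnit b → AdicCompletion.evalₐ (maximalIdeal O) 2
      (φ (algebraMap O' (EGA4.Cpl O') b)) = Ideal.Quotient.mk (maximalIdeal O ^ 2) c → IsUnit c := by
    intro b c hb hc
    have h1 : IsUnit (Ideal.Quotient.mk (maximalIdeal O ^ 2) c) :=
      hc ▸ ((hb.map _).map φ).map (AdicCompletion.evalₐ (maximalIdeal O) 2)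
    obtain ⟨w, hw⟩ := h1.exists_right_inv
    obtain ⟨w, rfl⟩ := Ideal.Quotient.mk_surjective w
    rw [← map_mul, ← map_one (Ideal.Quotient.mk _)] at hw
    have h2 : c * w - 1 ∈ maximalIdeal O := Ideal.pow_le_self two_ne_zero (Ideal.Quotient.eq.1 hw)
    by_contra hn
    exact (maximalIdeal.isMaximal O).ne_top ((Ideal.eq_top_iff_one _).2 (by
      have := sub_mem (Ideal.mul_mem_right w _ ((mem_maximalIdeal c).2 hn)) h2
      rwa [sub_sub_cancel] at this))
  have hδu : ∀ s : ((maximalIdeal O').comap (algebraMap C' O')).primeCompl, IsUnit (δ s) := by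
    intro s
    obtain ⟨c, hc⟩ := Ideal.Quotient.mk_surjective
      (AdicCompletion.evalₐ (maximalIdeal O) 2 (φ (algebraMap O' (EGA4.Cpl O') (algebraMap C' O' s))))
    have hcu := (hunit _ c (IsLocalization.map_units O' s) hc.symm).map ι
    by_contra hn
    have := sub_mem ((mem_maximalIdeal _).2 hn) (hne (hδ s c hc.symm))
    rw [sub_sub_cancel] at this
    exact (mem_maximalIdeal _).1 this hcu
  let g : O' →+* R' := IsLocalization.lift (M := ((maximalIdeal O').comap (algebraMap C' O')).primeCompl) hδu
  have hg : ∀ b, g (algebraMap C' O' b) = δ b := IsLocalization.lift_eq _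
  have happ' : ∀ (b : O') (a : O), AdicCompletion.evalₐ (maximalIdeal O) 2 (φ (algebraMap O' (EGA4.Cpl O') b)) =
      Ideal.Quotient.mk (maximalIdeal O ^ 2) a → g b - ι a ∈ maximalIdeal R' ^ 2 := by
    intro b a ha
    obtain ⟨⟨x, s⟩, hxs⟩ := IsLocalization.surj ((maximalIdeal O').comap (algebraMap C' O')).primeCompl b
    dsimp only at hxs
    obtain ⟨c, hc⟩ := Ideal.Quotient.mk_surjective
      (AdicCompletion.evalₐ (maximalIdeal O) 2 (φ (algebraMap O' (EGA4.Cpl O') (algebraMap C' O' s))))
    have h1 := hδ x (a * c) (by rw [← hxs, map_mul, map_mul, map_mul, ha, ← hc, map_mul])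
    have h2 := hδ s c hc.symm
    rw [← hg, ← hxs, map_mul, hg, map_mul] at h1
    rw [← Ideal.unit_mul_mem_iff_mem _ ((hunit _ c (IsLocalization.map_units O' s) hc.symm).map ι),
      show ι c * (g b - ι a) = (g b * δ s - ι a * ι c) - g b * (δ s - ι c) by ring]
    exact sub_mem h1 (Ideal.mul_mem_left _ _ h2)
  haveI hgloc : IsLocalHom g := by
    refine ⟨fun b hb => ?_⟩
    by_contra hn
    obtain ⟨a, ha⟩ := Ideal.Quotient.mk_surjective
      (AdicCompletion.evalₐ (maximalIdeal O) 2 (φ (algebraMap O' (EGA4.Cpl O') b)))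
    have hau : IsUnit a := by
      by_contra hna
      have h := add_mem (hne (happ' b a ha.symm)) ((mem_maximalIdeal (ι a)).2 fun h => hna (IsUnit.of_map ι a h))
      rw [sub_add_cancel] at h
      exact (mem_maximalIdeal _).1 h hb
    have h1 : φ (algebraMap O' (EGA4.Cpl O') b) - algebraMap O T a ∈ maximalIdeal T := by
      rw [AdicCompletion.maximalIdeal_eq_map]
      refine Ideal.map_mono (Ideal.pow_le_self two_ne_zero)
        (CAlgH.Approximation.mem_map_pow (maximalIdeal O).fg_of_isNoetherianRing ?_)
      rw [map_sub, AlgHom.commutes, ← ha]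
      exact sub_self _
    have h2 : φ (algebraMap O' (EGA4.Cpl O') b) ∈ maximalIdeal T := by
      have h3 : algebraMap O' (EGA4.Cpl O') b ∈ maximalIdeal (EGA4.Cpl O') := by
        rw [AdicCompletion.maximalIdeal_eq_map]
        exact Ideal.mem_map_of_mem _ ((mem_maximalIdeal b).2 hn)
      exact (mem_maximalIdeal _).2 fun h => (mem_maximalIdeal _).1 h3 (IsUnit.of_map φ _ h)
    have h4 := sub_mem h2 h1
    rw [sub_sub_cancel] at h4
    exact (mem_maximalIdeal _).1 h4 (hau.map _)
  obtain ⟨hgf, hgr, hgm⟩ := CAlgH.EtaleOfCompletionIso.flat_and_unramified ι hflat hmR' hres g φ le_rfl happ'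
  letI algg : Algebra O' R' := g.toAlgebra
  haveI : IsLocalHom (algebraMap O' R') := hgloc
  have hk' : ∀ a : k, ι (algebraMap k O a) = g (algebraMap k O' a) := by
    intro a
    rw [IsScalarTower.algebraMap_apply k C O, IsScalarTower.algebraMap_apply k C' O', hg,
      ← RingHom.comp_apply ι, hι]
    show algebraMap Cet R' (algebraMap C Cet (algebraMap k C a)) =
      algebraMap Cet R' (γ ((1 : C) ⊗ₜ[k] algebraMap k C' a))
    refine congrArg _ ((γ.commutes _).symm.trans (congrArg γ ?_))
    rw [← IsScalarTower.algebraMap_apply k C (C ⊗[k] C')]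
    exact ((Algebra.TensorProduct.includeRight : C' →ₐ[k] C ⊗[k] C').commutes a).symm
  letI : Algebra k R' := (ι.comp (algebraMap k O)).toAlgebra
  haveI : IsScalarTower k O R' := IsScalarTower.of_algebraMap_eq fun _ => rfl
  haveI : IsScalarTower k O' R' := IsScalarTower.of_algebraMap_eq hk'
  haveI : Algebra.EssFiniteType k R' := Algebra.EssFiniteType.comp k O R'
  haveI : Algebra.EssFiniteType O' R' := Algebra.EssFiniteType.of_comp k O' R'
  haveI : Algebra.FormallyUnramified O' R' := CAlgH.EtaleOfCompletionIso.formallyUnramified_of g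
    (RingHom.essFiniteType_algebraMap.2 inferInstance) hgr hgm
  haveI : Module.Flat O' R' := hgf
  refine ⟨R', inferInstance, inferInstance, algι, inferInstance, algg, inferInstance,
    ⟨EssEt6.of_flat, RingHom.injective _, fun z => ?_⟩, ⟨EssEt6.of_flat, RingHom.injective _, fun z => ?_⟩, hk'⟩
  · obtain ⟨z, rfl⟩ := residue_surjective z
    obtain ⟨a, ha⟩ := hres z
    exact ⟨residue O a, (Ideal.Quotient.eq.2 ha).symm⟩
  · obtain ⟨z, rfl⟩ := residue_surjective z
    obtain ⟨a, ha⟩ := hgr z
    exact ⟨residue O' a, (Ideal.Quotient.eq.2 ha).symm⟩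

/-- Local rings essentially of finite type over a G-ring with isomorphic completions have isomorphic
henselizations. -/
theorem nonempty_henselization_algEquiv {k : Type u} [CommRing k] [IsNoetherianRing k] (hk : CAlg.IsGRing k)
    (O O' : Type u) [CommRing O] [IsLocalRing O] [Algebra k O] [Algebra.EssFiniteType k O]
    [CommRing O'] [IsLocalRing O'] [Algebra k O'] [Algebra.EssFiniteType k O']
    (φ : EGA4.Cpl O' ≃+* EGA4.Cpl O)
    (hφ : ∀ a : k, φ (algebraMap O' (EGA4.Cpl O') (algebraMap k O' a)) =
      algebraMap O (EGA4.Cpl O) (algebraMap k O a))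
    (Oh : Type u) [CommRing Oh] [IsLocalRing Oh] [Algebra O Oh] [IsLocalHom (algebraMap O Oh)]
    [Hensel.IsHenselization O Oh] [Algebra k Oh] [IsScalarTower k O Oh]
    (O'h : Type u) [CommRing O'h] [IsLocalRing O'h] [Algebra O' O'h] [IsLocalHom (algebraMap O' O'h)]
    [Hensel.IsHenselization O' O'h] [Algebra k O'h] [IsScalarTower k O' O'h] :
    Nonempty (Oh ≃ₐ[k] O'h) := by
  obtain ⟨R', _, _, _, _, _, _, h1, h2, hk'⟩ := exists_common_nbhd hk O O' φ hφ
  haveI := HenselLib.isHenselization_localH (R := R')
  obtain ⟨e₁, he₁⟩ := henselization_equiv_of_strictlyEssEtale h1 Oh (HenselLib.LocalH R')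
  obtain ⟨e₂, he₂⟩ := henselization_equiv_of_strictlyEssEtale h2 O'h (HenselLib.LocalH R')
  refine ⟨AlgEquiv.ofRingEquiv (f := e₁.trans e₂.symm) fun a => ?_⟩
  rw [RingEquiv.trans_apply, RingEquiv.symm_apply_eq, IsScalarTower.algebraMap_apply k O Oh, he₁,
    IsScalarTower.algebraMap_apply k O' O'h, he₂, hk']

end Groth.Agent.EGA43.HenselCompare
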