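import Groth.Agent.Et18.Morse
import Mathlib.LinearAlgebra.Matrix.ToLin
import Mathlib.LinearAlgebra.Basis.VectorSpace

/-!
# Normal form of an ordinary quadratic singularity (all characteristics)
-/

set_option autoImplicit false
set_option backward.isDefEq.respectTransparency false
set_option linter.style.haveILetI false

universe u

open MvPowerSeries Finsupp VanCyc
open scoped Matrix

namespace Groth.Agent.EGA43.HenselCompare

open Et18

/-- A weighted contraction on tuples of power series has a fixed point. -/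
theorem exists_fixed {R : Type u} [CommRing R] {σ : Type*} {ι : Type*} (w b : ι → ℕ) (hwb : ∀ i, w i ≤ b i)
    (Φ : (ι → MvPowerSeries σ R) → ι → MvPowerSeries σ R)
    (hΦ : ∀ s, (∀ i, OrdGE (b i) (s i)) → ∀ i, OrdGE (b i) (Φ s i))
    (hcontr : ∀ (s s' : ι → MvPowerSeries σ R) (k : ℕ), (∀ i, OrdGE (b i) (s i)) → (∀ i, OrdGE (b i) (s' i)) →
      (∀ i, OrdGE (w i + k) (s i - s' i)) → ∀ i, OrdGE (w i + k + 1) (Φ s i - Φ s' i)) :
    ∃ s, (∀ i, OrdGE (b i) (s i)) ∧ Φ s = s := by
  classical
  let G : ℕ → ι → MvPowerSeries σ R := fun k => Φ^[k] 0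
  have hGsucc : ∀ k, G (k + 1) = Φ (G k) := fun k => Function.iterate_succ_apply' Φ k 0
  have hG : ∀ k i, OrdGE (b i) (G k i) := by
    intro k
    induction k with
    | zero => exact fun i => OrdGE.zero _
    | succ k ih => intro i; rw [hGsucc k]; exact hΦ _ ih i
  have hstep : ∀ k i, OrdGE (w i + k) (G (k + 1) i - G k i) := by
    intro k
    induction k with
    | zero => exact fun i => ((hG 1 i).sub (hG 0 i)).mono (hwb i)
    | succ k ih =>
      intro i
      have e := hcontr (G (k + 1)) (G k) k (hG (k + 1)) (hG k) ih i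
      rw [← hGsucc (k + 1), ← hGsucc k] at e
      exact e
  have hstab : ∀ k l, k ≤ l → ∀ i, OrdGE (w i + k) (G l i - G k i) := by
    intro k l hkl
    induction l, hkl using Nat.le_induction with
    | base => intro i; rw [sub_self]; exact OrdGE.zero _
    | succ l hl ih =>
      intro i
      have := ((hstep l i).mono (by omega : w i + k ≤ w i + l)).add (ih i)
      rwa [sub_add_sub_cancel] at this
  let g : ι → MvPowerSeries σ R := fun i d => coeff d (G (degree d + 1) i)
  have hg : ∀ k i, OrdGE (w i + k) (g i - G k i) := fun k i d hd => by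
    rw [map_sub, sub_eq_zero]
    rcases le_total k (degree d + 1) with h | h
    · have := hstab k _ h i d hd
      rw [map_sub, sub_eq_zero] at this
      exact this
    · have := hstab (degree d + 1) k h i d (by omega)
      rw [map_sub, sub_eq_zero] at this
      exact this.symm
  have hgm : ∀ i, OrdGE (b i) (g i) := fun i d hd => hG (degree d + 1) i d hd
  refine ⟨g, hgm, funext fun i => ?_⟩
  ext d
  have h1 := hg (degree d + 1) i d (by omega)
  have h2 := hcontr g (G (degree d)) (degree d) hgm (hG _) (hg _) i d (by omega)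
  rw [map_sub, sub_eq_zero] at h1 h2
  rw [h1, h2, hGsucc (degree d)]

variable {k : Type u} [Field k] {N : ℕ}

theorem quadEval_smul (q : Fin N → Fin N → k) (t : k) (v : Fin N → k) :
    quadEval q (t • v) = t * t * quadEval q v := by
  simp only [quadEval, Finset.mul_sum]
  refine Finset.sum_congr rfl fun i _ => Finset.sum_congr rfl fun j _ => ?_
  split_ifs
  · simp only [Pi.smul_apply, smul_eq_mul]; ring
  · ring

theorem polarMatrix_symm (q : Fin N → Fin N → k) (j l : Fin N) : polarMatrix q j l = polarMatrix q l j := by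
  unfold polarMatrix
  rcases lt_trichotomy j l with h | h | h
  · simp [h.ne, h.ne', h, h.le.not_gt]
  · simp [h]
  · simp [h.ne, h.ne', h, h.le.not_gt]

/-- A degenerate ordinary form has a line as radical, on which it does not vanish. -/
theorem exists_radical [IsAlgClosed k] (q : Fin N → Fin N → k) (hq : QuadOrd q) (hd : ¬ QuadNondeg q) :
    ∃ (i₀ : Fin N) (c : Fin N → k) (B : Matrix (Fin N) (Fin N) k), polarMatrix q *ᵥ c = 0 ∧
      quadEval q c ≠ 0 ∧ ∀ x : Fin N → k, B *ᵥ (polarMatrix q *ᵥ x) = x - x i₀ • c := by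
  classical
  rw [QuadNondeg, isUnit_iff_ne_zero, not_not, ← Matrix.exists_mulVec_eq_zero_iff] at hd
  obtain ⟨w, hw, hw0⟩ := hd
  have hQw : quadEval q w ≠ 0 := fun h => hw (hq w h hw0)
  have hline : ∀ v, polarMatrix q *ᵥ v = 0 → ∃ t : k, v = t • w := by
    intro v hv
    obtain ⟨t, ht⟩ := IsAlgClosed.exists_pow_nat_eq (-(quadEval q v) / quadEval q w) (by norm_num : 0 < 2)
    refine ⟨-t, ?_⟩
    have h0 : polarMatrix q *ᵥ (v + t • w) = 0 := by
      rw [Matrix.mulVec_add, Matrix.mulVec_smul, hv, hw0, smul_zero, add_zero]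
    have h1 : quadEval q (v + t • w) = 0 := by
      rw [quadEval_add, Matrix.mulVec_smul, hw0, smul_zero, dotProduct_zero, add_zero, quadEval_smul]
      rw [← pow_two, ht]
      field_simp
      ring
    have := hq _ h1 h0
    rw [neg_smul]
    exact eq_neg_of_add_eq_zero_left this
  obtain ⟨i₀, hi₀⟩ : ∃ i, w i ≠ 0 := by
    by_contra h
    push_neg at h
    exact hw (funext h)
  let c : Fin N → k := (w i₀)⁻¹ • w
  have hc : polarMatrix q *ᵥ c = 0 := by rw [Matrix.mulVec_smul, hw0, smul_zero]
  have hQc : quadEval q c ≠ 0 := by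
    rw [quadEval_smul]
    exact mul_ne_zero (mul_ne_zero (inv_ne_zero hi₀) (inv_ne_zero hi₀)) hQw
  let P : (Fin N → k) →ₗ[k] (Fin N → k) :=
    LinearMap.id - (LinearMap.proj (R := k) (φ := fun _ : Fin N => k) i₀).smulRight c
  let L := (polarMatrix q).mulVecLin
  have hker : LinearMap.ker L ≤ LinearMap.ker P := by
    intro v hv
    obtain ⟨t, rfl⟩ := hline v hv
    show t • w - ((t • w) i₀) • c = 0
    rw [Pi.smul_apply, smul_eq_mul, smul_smul, mul_assoc, mul_inv_cancel₀ hi₀, mul_one, sub_self]
  obtain ⟨g, hg⟩ := LinearMap.exists_extend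
    (((LinearMap.ker L).liftQ P hker).comp L.quotKerEquivRange.symm.toLinearMap)
  refine ⟨i₀, c, LinearMap.toMatrix' g, hc, hQc, fun x => ?_⟩
  rw [← Matrix.toLin'_apply, Matrix.toLin'_toMatrix']
  have h := LinearMap.congr_fun hg (L.quotKerEquivRange (Submodule.Quotient.mk x))
  simp only [LinearMap.comp_apply, LinearEquiv.coe_coe, LinearEquiv.symm_apply_apply, Submodule.subtype_apply,
    LinearMap.quotKerEquivRange_apply_mk, Submodule.liftQ_apply] at h
  exact h

/-- A series with the same quadratic part as an ordinary degenerate form defines the same singularity. -/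
theorem exists_quadEval_add_eq_mul [IsAlgClosed k] (q : Fin N → Fin N → k) (hq : QuadOrd q) (hd : ¬ QuadNondeg q)
    {R : MvPowerSeries (Fin N) k} (hR : OrdGE 3 R) :
    ∃ (g : Fin N → MvPowerSeries (Fin N) k) (v : MvPowerSeries (Fin N) k), (∀ i, OrdGE 2 (g i)) ∧ OrdGE 1 v ∧
      quadEval (cTab q) ((fun i => X i) + g) = (1 + v) * (qSeries q + R) := by
  classical
  obtain ⟨i₀, c, B, hc, hQc, hB⟩ := exists_radical q hq hd
  let M : Matrix (Fin N) (Fin N) (MvPowerSeries (Fin N) k) := (polarMatrix q).map C
  let Bs : Matrix (Fin N) (Fin N) (MvPowerSeries (Fin N) k) := B.map C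
  let cs : Fin N → MvPowerSeries (Fin N) k := fun j => C (c j)
  let x : Fin N → MvPowerSeries (Fin N) k := fun j => X j
  let y : Fin N → MvPowerSeries (Fin N) k := M *ᵥ x
  let uu : Fin N → MvPowerSeries (Fin N) k := Bs *ᵥ y
  have hu : ∀ j, X j = X i₀ * cs j + uu j := by
    have hBM : B * polarMatrix q = 1 - Matrix.vecMulVec c (Pi.single i₀ 1) := by
      refine Matrix.ext_of_mulVec_single fun j => ?_
      rw [← Matrix.mulVec_mulVec, hB, Matrix.sub_mulVec, Matrix.one_mulVec, Matrix.vecMulVec_mulVec]
      congr 1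
      ext l
      simp [Pi.single_apply, mul_comm, eq_comm]
    intro j
    have h : uu j = ((1 - Matrix.vecMulVec c (Pi.single i₀ 1)).map C *ᵥ x) j := by
      show (Bs *ᵥ (M *ᵥ x)) j = _
      rw [Matrix.mulVec_mulVec, ← Matrix.map_mul, hBM]
    rw [h, Matrix.map_sub _ (fun a b => map_sub C a b), Matrix.map_one _ (map_zero _) (map_one _), Matrix.sub_mulVec,
      Matrix.one_mulVec]
    have h2 : ((Matrix.vecMulVec c (Pi.single i₀ (1 : k))).map (C : k →+* MvPowerSeries (Fin N) k) *ᵥ x) j =
        X i₀ * cs j := by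
      simp only [Matrix.mulVec, dotProduct, Matrix.map_apply, Matrix.vecMulVec_apply]
      rw [Finset.sum_eq_single i₀ (fun l _ hl => by simp [Pi.single_eq_of_ne hl]) (by simp)]
      simp [x, cs, mul_comm]
    rw [Pi.sub_apply, h2]
    show X j = _ + (X j - _)
    ring
  have hord1 : OrdGE 1 (X i₀ : MvPowerSeries (Fin N) k) := ordGE_one_iff.2 (by simp)
  have hx : ∀ j, OrdGE 1 (x j) := fun j => ordGE_one_iff.2 (by simp [x])
  have hy : ∀ j, OrdGE 1 (y j) := fun j => OrdGE.sum (s := Finset.univ)
    (p := fun l => C (polarMatrix q j l) * x l) fun l _ => (hx l).C_mul _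
  have huu : ∀ j, OrdGE 1 (uu j) := fun j => OrdGE.sum (s := Finset.univ)
    (p := fun l => C (B j l) * y l) fun l _ => (hy l).C_mul _
  -- linear operators of division by the gradient and `x_{i₀}²`
  let η : (Fin N → MvPowerSeries (Fin N) k) → Fin N → MvPowerSeries (Fin N) k := fun p l => ∑ j, C (B j l) * p j
  have hη : ∀ p : Fin N → MvPowerSeries (Fin N) k, uu ⬝ᵥ p = y ⬝ᵥ η p := fun p => by
    simp only [uu, Bs, η, dotProduct, Matrix.mulVec, Matrix.map_apply, Finset.sum_mul, Finset.mul_sum]
    rw [Finset.sum_comm]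
    exact Finset.sum_congr rfl fun l _ => Finset.sum_congr rfl fun j _ => by ring
  have hdiv : ∀ p : MvPowerSeries (Fin N) k, constantCoeff p = 0 →
      p = X i₀ * (∑ j, cs j * divVar j p) + y ⬝ᵥ η (fun j => divVar j p) := by
    intro p hp
    conv_lhs => rw [← sum_X_mul_divVar p hp]
    rw [← hη, Finset.mul_sum, dotProduct, ← Finset.sum_add_distrib]
    refine Finset.sum_congr rfl fun j _ => ?_
    rw [hu j]; ring
  let ζ : Fin N → MvPowerSeries (Fin N) k :=
    η fun i => ∑ j, if i ≤ j then cTab q i j * uu j else 0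
  have hζ : quadEval (cTab q) uu = y ⬝ᵥ ζ := by
    rw [← hη]
    simp only [quadEval, dotProduct, Finset.mul_sum]
    refine Finset.sum_congr rfl fun i _ => Finset.sum_congr rfl fun j _ => ?_
    split_ifs <;> ring
  have hζ1 : ∀ l, OrdGE 1 (ζ l) := fun l => OrdGE.sum fun j _ => OrdGE.C_mul (OrdGE.sum fun i _ => by
    split_ifs
    · exact (huu i).C_mul _
    · exact OrdGE.zero _) _
  have hQ : qSeries q = C (quadEval q c) * X i₀ * X i₀ + y ⬝ᵥ ζ := by
    rw [← hζ]
    have hs : (fun i => X i : Fin N → MvPowerSeries (Fin N) k) = (fun j => X i₀ * cs j) + uu := funext hu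
    rw [qSeries, hs, quadEval_add]
    have h1 : quadEval (cTab q) (fun j => X i₀ * cs j) = C (quadEval q c) * X i₀ * X i₀ := by
      rw [show C (quadEval q c) = quadEval (cTab q) cs from map_quadEval C q c]
      simp only [quadEval, Finset.sum_mul]
      refine Finset.sum_congr rfl fun i _ => Finset.sum_congr rfl fun j _ => ?_
      split_ifs <;> ring
    have h2 : (fun j => X i₀ * cs j) ⬝ᵥ (polarMatrix (cTab q) *ᵥ uu) = 0 := by
      rw [polarMatrix_cTab, Matrix.dotProduct_mulVec]
      have h3 : Matrix.vecMul (fun j => X i₀ * cs j) ((polarMatrix q).map C) = 0 := by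
        funext j
        have h4 : ∑ l, c l * polarMatrix q l j = 0 := by
          refine (Finset.sum_congr rfl fun l _ => ?_).trans (congrFun hc j)
          rw [mul_comm, polarMatrix_symm]
        calc _ = X i₀ * C (∑ l, c l * polarMatrix q l j) := by
              simp only [Matrix.vecMul, dotProduct, map_sum, map_mul, Finset.mul_sum, Matrix.map_apply, cs, mul_assoc]
          _ = 0 := by rw [h4, map_zero, mul_zero]
      rw [h3, zero_dotProduct]
    rw [h1, h2, add_zero]
  let δ : MvPowerSeries (Fin N) k → MvPowerSeries (Fin N) k := fun p => ∑ j, cs j * divVar j p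
  let e₀ : MvPowerSeries (Fin N) k := C (quadEval q c)⁻¹
  -- the solution operator
  let solV : MvPowerSeries (Fin N) k → MvPowerSeries (Fin N) k := fun S => -(e₀ * δ (δ S))
  let solG : MvPowerSeries (Fin N) k → Fin N → MvPowerSeries (Fin N) k := fun S l =>
    η (fun j => divVar j S) l + X i₀ * η (fun j => divVar j (δ S)) l - e₀ * δ (δ S) * ζ l
  have hδsub : ∀ p p', δ (p - p') = δ p - δ p' := fun p p' => by
    simp only [δ, divVar_sub, mul_sub, Finset.sum_sub_distrib]
  have hηsub : ∀ p p' l, η (fun j => divVar j (p - p')) l =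
      η (fun j => divVar j p) l - η (fun j => divVar j p') l := fun p p' l => by
    simp only [η, divVar_sub, mul_sub, Finset.sum_sub_distrib]
  have hVsub : ∀ p p', solV (p - p') = solV p - solV p' := fun p p' => by simp only [solV, hδsub]; ring
  have hGsub : ∀ p p' l, solG (p - p') l = solG p l - solG p' l := fun p p' l => by
    simp only [solG, hδsub, hηsub]; ring
  have hδord : ∀ {j : ℕ} {p : MvPowerSeries (Fin N) k}, OrdGE j p → OrdGE (j - 1) (δ p) :=
    fun hp => OrdGE.sum fun l _ => (hp.divVar l).C_mul _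
  have hηord : ∀ {j : ℕ} {p : MvPowerSeries (Fin N) k}, OrdGE j p → ∀ l, OrdGE (j - 1) (η (fun i => divVar i p) l) :=
    fun hp l => OrdGE.sum fun i _ => (hp.divVar i).C_mul _
  have hVord : ∀ {j : ℕ} {p : MvPowerSeries (Fin N) k}, OrdGE j p → OrdGE (j - 1 - 1) (solV p) :=
    fun hp => ((hδord (hδord hp)).C_mul _).neg
  have hGord : ∀ {j : ℕ} {p : MvPowerSeries (Fin N) k}, OrdGE j p → ∀ l, OrdGE (j - 1) (solG p l) :=
    fun {j p} hp l => by
      refine ((hηord hp l).add ((hord1.mul (hηord (hδord hp) l)).mono (by omega))).sub ?_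
      exact ((((hδord (hδord hp)).C_mul _).mul (hζ1 l))).mono (by omega)
  have hsol : ∀ S, OrdGE 3 S → y ⬝ᵥ solG S - solV S * qSeries q = S := by
    intro S hS
    have hδ0 : constantCoeff (δ S) = 0 := ordGE_one_iff.1 ((hδord hS).mono (by norm_num))
    have e1 : S = X i₀ * δ S + y ⬝ᵥ η (fun j => divVar j S) := hdiv S (ordGE_one_iff.1 (hS.mono (by norm_num)))
    have e2 : δ S = X i₀ * δ (δ S) + y ⬝ᵥ η (fun j => divVar j (δ S)) := hdiv _ hδ0
    have e3 : y ⬝ᵥ solG S = y ⬝ᵥ η (fun j => divVar j S) + X i₀ * (y ⬝ᵥ η (fun j => divVar j (δ S))) -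
        e₀ * δ (δ S) * (y ⬝ᵥ ζ) := by
      simp only [dotProduct, Finset.mul_sum, ← Finset.sum_add_distrib, ← Finset.sum_sub_distrib, solG]
      exact Finset.sum_congr rfl fun l _ => by ring
    have e4 : e₀ * C (quadEval q c) = (1 : MvPowerSeries (Fin N) k) := by
      rw [← map_mul, inv_mul_cancel₀ hQc, map_one]
    rw [e3, hQ, show solV S = -(e₀ * δ (δ S)) from rfl]
    linear_combination (norm := ring_nf) (-1 : MvPowerSeries (Fin N) k) * e1 + (-X i₀) * e2 +
      (δ (δ S) * X i₀ * X i₀) * e4
  -- the fixed point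
  let rhs : (Option (Fin N) → MvPowerSeries (Fin N) k) → MvPowerSeries (Fin N) k := fun s =>
    R + s none * R - quadEval (cTab q) (fun l => s (some l))
  let w : Option (Fin N) → ℕ := fun i => i.elim 0 fun _ => 1
  let bd : Option (Fin N) → ℕ := fun i => i.elim 1 fun _ => 2
  let Φ : (Option (Fin N) → MvPowerSeries (Fin N) k) → Option (Fin N) → MvPowerSeries (Fin N) k :=
    fun s i => i.elim (solV (rhs s)) (solG (rhs s))
  have hrhs : ∀ s, (∀ i, OrdGE (bd i) (s i)) → OrdGE 3 (rhs s) := fun s hs =>
    (hR.add (((hs none).mul hR).mono (by simp [bd]))).sub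
      ((ordGE_quadEval q (k := 2) fun l => hs (some l)).mono (by norm_num))
  obtain ⟨s, hs, hfix⟩ := exists_fixed w bd (fun i => by cases i <;> simp [w, bd]) Φ
    (fun s hs i => by
      cases i with
      | none => exact hVord (hrhs s hs)
      | some l => exact hGord (hrhs s hs) l)
    (fun s s' j hs hs' h i => by
      have hdiff : OrdGE (j + 3) (rhs s - rhs s') := by
        have e : rhs s - rhs s' = (s none - s' none) * R -
            (quadEval (cTab q) (fun l => s (some l)) - quadEval (cTab q) (fun l => s' (some l))) := by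
          simp only [rhs]; ring
        rw [e]
        exact (((h none).mul hR).mono (by simp [w])).sub
          ((ordGE_quadEval_sub q (m := 2) (k := 1 + j) (fun l => hs (some l)) (fun l => hs' (some l))
            fun l => h (some l)).mono (by omega))
      cases i with
      | none =>
        show OrdGE _ (solV (rhs s) - solV (rhs s'))
        rw [← hVsub]
        exact (hVord hdiff).mono (by simp [w])
      | some l =>
        show OrdGE _ (solG (rhs s) l - solG (rhs s') l)
        rw [← hGsub]
        exact (hGord hdiff l).mono (by simp [w]; omega))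
  refine ⟨fun l => s (some l), s none, fun l => hs (some l), hs none, ?_⟩
  have hv : s none = solV (rhs s) := (congrFun hfix none).symm
  have hgs : (fun l => s (some l)) = solG (rhs s) := funext fun l => (congrFun hfix (some l)).symm
  have h := hsol (rhs s) (hrhs s hs)
  rw [← hv, ← hgs] at h
  rw [quadEval_add, polarMatrix_cTab, Matrix.dotProduct_mulVec]
  have hsym : Matrix.vecMul (fun i => X i) ((polarMatrix q).map C) = y := by
    funext j
    simp only [Matrix.vecMul, dotProduct, Matrix.map_apply, y, M, Matrix.mulVec, x]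
    refine Finset.sum_congr rfl fun l _ => ?_
    rw [mul_comm]
    rw [polarMatrix_symm]
  rw [hsym]
  show qSeries q + _ + _ = _
  simp only [rhs] at h
  linear_combination h

/-- An ordinary quadratic series defines the same singularity as its quadratic part. -/
theorem nonempty_quot_equiv [IsAlgClosed k] (f : MvPowerSeries (Fin N) k) (hf : OrdQuadSeries f) :
    Nonempty ((MvPowerSeries (Fin N) k ⧸ Ideal.span {f}) ≃ₐ[k]
      (MvPowerSeries (Fin N) k ⧸ Ideal.span {qSeries (quadPart f)})) := by
  have hord := ordGE_sub_quadPart hf.1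
  by_cases hd : QuadNondeg (quadPart f)
  · obtain ⟨_, _, _, _, ⟨e⟩⟩ := exists_subst_eq_qSeries_add (quadPart f) hd 0 le_rfl hord
    rw [map_zero, add_zero] at e
    exact ⟨e⟩
  rw [map_zero, add_zero] at hord
  obtain ⟨g, v, hg, hv, hgv⟩ := exists_quadEval_add_eq_mul (quadPart f) hf.2 hd hord
  rw [add_sub_cancel] at hgv
  have hnear := fun i => near_X_add (hg i) i
  have hs : HasSubst (fun i => X i + g i) := KumLib.hasSubst_of_near hnear
  have hb := KumLib.subst_bijective_of_near hnear
  have e1 : subst (fun i => X i + g i) (qSeries (quadPart f)) = (1 + v) * f := (subst_qSeries hs _).trans hgv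
  obtain ⟨e⟩ := nonempty_quot_algEquiv hs hb e1
  refine ⟨(e.trans (Ideal.quotientEquivAlgOfEq k ?_)).symm⟩
  refine Ideal.span_singleton_mul_left_unit ?_ f
  rw [MvPowerSeries.isUnit_iff_constantCoeff, map_add, map_one, ordGE_one_iff.1 hv, add_zero]
  exact isUnit_one

end Groth.Agent.EGA43.HenselCompare
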